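import Groth.Agent.SGA4.K289.Lan
import Mathlib.CategoryTheory.Comma.Over.Basic

set_option autoImplicit false
open CategoryTheory CategoryTheory.Limits Opposite
universe u

namespace K289.Lan

variable {C : Type u} [SmallCategory C] {C' : Type u} [SmallCategory C'] (u : C ⥤ C')

/-- The pointwise colimit description of `u_!`. -/
noncomputable def isColimitLan (H : Cᵒᵖ ⥤ Type u) (Y : C'ᵒᵖ) :
    IsColimit ((Functor.LeftExtension.mk _ (u.op.leftKanExtensionUnit H)).coconeAt Y) :=
  u.op.isPointwiseLeftKanExtensionLeftKanExtensionUnit H Y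

lemma cocone_ι_eq (H : Cᵒᵖ ⥤ Type u) (Y : C'ᵒᵖ) (g : CostructuredArrow u.op Y)
    (b : H.obj g.left) :
    ((Functor.LeftExtension.mk _ (u.op.leftKanExtensionUnit H)).coconeAt Y).ι.app g b =
      ((lan u).obj H).map g.hom (eta u H g.left.unop b) := by
  have h : (u.op.lanAdjunction (Type u)).unit = u.op.lanUnit := Functor.lanAdjunction_unit _ _
  simp only [eta, h]
  rfl

/-- Every section of `u_! H` is the restriction of a section in the image of the unit. -/
lemma lan_surjective (H : Cᵒᵖ ⥤ Type u) (Y : C') (x : ((lan u).obj H).obj (op Y)) :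
    ∃ (Z : C) (g : Y ⟶ u.obj Z) (b : H.obj (op Z)),
      ((lan u).obj H).map g.op (eta u H Z b) = x := by
  obtain ⟨g, b, hb⟩ := Types.jointly_surjective _ (isColimitLan u H (op Y)) x
  exact ⟨g.left.unop, g.hom.unop, b, (cocone_ι_eq u H (op Y) g b).symm.trans hb⟩

/-- Construct a map out of `u_! H (Y)`. -/
lemma lan_exists_desc (H : Cᵒᵖ ⥤ Type u) (Y : C') (T : Type u)
    (φ : ∀ (Z : C) (_ : Y ⟶ u.obj Z), H.obj (op Z) → T)
    (hφ : ∀ (Z Z' : C) (g : Y ⟶ u.obj Z) (k : Z ⟶ Z') (b : H.obj (op Z')),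
      φ Z' (g ≫ u.map k) b = φ Z g (H.map k.op b)) :
    ∃ ρ : ((lan u).obj H).obj (op Y) → T, ∀ (Z : C) (g : Y ⟶ u.obj Z) (b : H.obj (op Z)),
      ρ (((lan u).obj H).map g.op (eta u H Z b)) = φ Z g b := by
  let c : Cocone (CostructuredArrow.proj u.op (op Y) ⋙ H) :=
    { pt := T
      ι :=
        { app := fun g => ↾fun b => φ g.left.unop g.hom.unop b
          naturality := by
            intro g g' k
            ext b
            have h1 : g.hom.unop = g'.hom.unop ≫ u.map k.left.unop := by
              have := CostructuredArrow.w k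
              exact (congrArg Quiver.Hom.unop this).symm
            have h2 := hφ g'.left.unop g.left.unop g'.hom.unop k.left.unop b
            rw [← h1] at h2
            exact h2.symm } }
  refine ⟨(isColimitLan u H (op Y)).desc c, ?_⟩
  intro Z g b
  have h1 := (isColimitLan u H (op Y)).fac c
    (CostructuredArrow.mk (show u.op.obj (op Z) ⟶ op Y from g.op))
  have h2 := congrArg (fun k => k b) h1
  refine Eq.trans ?_ h2
  exact congrArg ((isColimitLan u H (op Y)).desc c) (cocone_ι_eq u H (op Y)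
    (CostructuredArrow.mk (show u.op.obj (op Z) ⟶ op Y from g.op)) b).symm

variable [u.Faithful] (hu : ∀ X : C, (Over.post (X := X) u).Full)

omit [u.Faithful] in
include hu in
lemma exists_lift_of_slice {X₀ Z Z' : C} (g : u.obj X₀ ⟶ u.obj Z) (k : Z ⟶ Z') (h : X₀ ⟶ Z')
    (hg : g ≫ u.map k = u.map h) : ∃ h' : X₀ ⟶ Z, u.map h' = g := by
  have := hu Z'
  obtain ⟨m, hm⟩ := (Over.post (X := Z') u).map_surjective
    (X := Over.mk h) (Y := Over.mk k) (Over.homMk g hg)
  exact ⟨m.left, congrArg CommaMorphism.left hm⟩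

include hu in
/-- The partial retraction of the unit. -/
lemma exists_retraction (H : Cᵒᵖ ⥤ Type u) (X₀ : C) :
    ∃ ρ : ((lan u).obj H).obj (op (u.obj X₀)) → Option (H.obj (op X₀)),
      (∀ (Z : C) (h : X₀ ⟶ Z) (b : H.obj (op Z)),
        ρ (((lan u).obj H).map (u.map h).op (eta u H Z b)) = some (H.map h.op b)) ∧
      (∀ (Z : C) (g : u.obj X₀ ⟶ u.obj Z) (b : H.obj (op Z)), (¬ ∃ h : X₀ ⟶ Z, u.map h = g) →
        ρ (((lan u).obj H).map g.op (eta u H Z b)) = none) := by
  classical
  obtain ⟨ρ, hρ⟩ := lan_exists_desc u H (u.obj X₀) (Option (H.obj (op X₀)))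
    (fun Z g b => if h : ∃ h : X₀ ⟶ Z, u.map h = g then some (H.map h.choose.op b) else none)
    (by
      intro Z Z' g k b
      by_cases h : ∃ h : X₀ ⟶ Z, u.map h = g
      · have h' : ∃ h' : X₀ ⟶ Z', u.map h' = g ≫ u.map k :=
          ⟨h.choose ≫ k, by rw [u.map_comp, h.choose_spec]⟩
        rw [dif_pos h, dif_pos h']
        congr 1
        have h2 : h'.choose = h.choose ≫ k := by
          apply u.map_injective
          rw [h'.choose_spec, u.map_comp, h.choose_spec]
        rw [h2, op_comp, H.map_comp]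
        rfl
      · have h' : ¬ ∃ h' : X₀ ⟶ Z', u.map h' = g ≫ u.map k := by
          rintro ⟨h', hh'⟩
          exact h (exists_lift_of_slice u hu g k h' hh'.symm)
        rw [dif_neg h, dif_neg h'])
  refine ⟨ρ, ?_, ?_⟩
  · intro Z h b
    have hex : ∃ h' : X₀ ⟶ Z, u.map h' = u.map h := ⟨h, rfl⟩
    rw [hρ, dif_pos hex, u.map_injective hex.choose_spec]
  · intro Z g b h
    rw [hρ, dif_neg h]

include hu in
/-- The unit is injective under the slice condition. -/
lemma eta_injective_of_slice (H : Cᵒᵖ ⥤ Type u) (X : C) : Function.Injective (eta u H X) := by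
  obtain ⟨ρ, hρ, -⟩ := exists_retraction u hu H X
  have h1 : ∀ a, ρ (eta u H X a) = some a := by
    intro a
    have := hρ X (𝟙 X) a
    rwa [u.map_id, op_id, ((lan u).obj H).map_id, op_id, H.map_id] at this
  intro a b hab
  have := h1 b
  rw [← hab, h1 a] at this
  exact Option.some.inj this

include hu in
/-- The naturality squares of the unit are cartesian under the slice condition. -/
lemma eta_cartesian_of_slice {H K : Cᵒᵖ ⥤ Type u} (α : H ⟶ K) (X : C)
    (x : ((lan u).obj H).obj (op (u.obj X))) (k : K.obj (op X))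
    (hx : ((lan u).map α).app (op (u.obj X)) x = eta u K X k) :
    ∃ a : H.obj (op X), eta u H X a = x ∧ α.app (op X) a = k := by
  obtain ⟨Z, g, b, rfl⟩ := lan_surjective u H (u.obj X) x
  obtain ⟨ρ, hρ, hρ'⟩ := exists_retraction u hu K X
  have h0 : ((lan u).map α).app (op (u.obj X)) (((lan u).obj H).map g.op (eta u H Z b)) =
      ((lan u).obj K).map g.op (eta u K Z (α.app (op Z) b)) := by
    rw [eta_map]
    exact congrArg (fun k => k (eta u H Z b)) (((lan u).map α).naturality g.op)
  have h1 : ρ (eta u K X k) = some k := by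
    have := hρ X (𝟙 X) k
    rwa [u.map_id, op_id, ((lan u).obj K).map_id, op_id, K.map_id] at this
  rw [← hx, h0] at h1
  by_cases h : ∃ h : X ⟶ Z, u.map h = g
  · obtain ⟨h, rfl⟩ := h
    refine ⟨H.map h.op b, eta_natural u H h b, ?_⟩
    rw [hρ] at h1
    refine Eq.trans ?_ (Option.some.inj h1)
    exact congrArg (fun k => k b) (α.naturality h.op)
  · rw [hρ' Z g _ h] at h1
    exact absurd h1 (by simp)

end K289.Lan
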