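import Mathlib.CategoryTheory.Sites.Sheafification
import Mathlib.CategoryTheory.Sites.LeftExact
import Mathlib.CategoryTheory.Limits.Shapes.Products

set_option autoImplicit false
open CategoryTheory CategoryTheory.Limits Opposite
universe u

namespace K289.SheafCofan

variable {C : Type u} [SmallCategory C] (J : GrothendieckTopology C)

/-- Maps out of the associated sheaf of a representable are sections. -/
noncomputable def homEquivSections (X : C) (F : Sheaf J (Type u)) :
    ((presheafToSheaf J (Type u)).obj (yoneda.obj X) ⟶ F) ≃ F.obj.obj (op X) :=
  ((sheafificationAdjunction J (Type u)).homEquiv _ _).trans yonedaEquiv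

lemma homEquivSections_naturality_left {X Y : C} (s : Y ⟶ X) (F : Sheaf J (Type u))
    (φ : (presheafToSheaf J (Type u)).obj (yoneda.obj X) ⟶ F) :
    homEquivSections J Y F ((presheafToSheaf J (Type u)).map (yoneda.map s) ≫ φ) =
      F.obj.map s.op (homEquivSections J X F φ) := by
  simp only [homEquivSections, Equiv.trans_apply]
  rw [Adjunction.homEquiv_naturality_left, yonedaEquiv_naturality]

lemma homEquivSections_naturality_right {X : C} {F G : Sheaf J (Type u)} (g : F ⟶ G)
    (φ : (presheafToSheaf J (Type u)).obj (yoneda.obj X) ⟶ F) :
    homEquivSections J X G (φ ≫ g) = g.hom.app (op X) (homEquivSections J X F φ) := by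
  simp only [homEquivSections, Equiv.trans_apply]
  rw [Adjunction.homEquiv_naturality_right, yonedaEquiv_comp]
  rfl

variable {X : C} {ι : Type u} (Y : ι → C) (s : ∀ i, Y i ⟶ X)

/-- The cofan of associated sheaves is a colimit iff sections of every sheaf over `X` are the
same as families of sections over the `Y i`. -/
lemma isColimit_iff :
    Nonempty (IsColimit (Cofan.mk ((presheafToSheaf J (Type u)).obj (yoneda.obj X))
      (fun i => (presheafToSheaf J (Type u)).map (yoneda.map (s i))))) ↔
    ∀ F : Sheaf J (Type u), Function.Bijective
      (fun (x : F.obj.obj (op X)) (i : ι) => F.obj.map (s i).op x) := by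
  constructor
  · rintro ⟨h⟩ F
    constructor
    · intro x y hxy
      obtain ⟨φ, rfl⟩ := (homEquivSections J X F).surjective x
      obtain ⟨ψ, rfl⟩ := (homEquivSections J X F).surjective y
      congr 1
      refine Cofan.IsColimit.hom_ext h _ _ (fun i => ?_)
      apply (homEquivSections J (Y i) F).injective
      have := congrFun hxy i
      exact (homEquivSections_naturality_left J (s i) F φ).trans
        (this.trans (homEquivSections_naturality_left J (s i) F ψ).symm)
    · intro x
      let φ := Cofan.IsColimit.desc h (fun i => (homEquivSections J (Y i) F).symm (x i))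
      refine ⟨homEquivSections J X F φ, ?_⟩
      funext i
      have h1 : (presheafToSheaf J (Type u)).map (yoneda.map (s i)) ≫ φ =
        (homEquivSections J (Y i) F).symm (x i) :=
          Cofan.IsColimit.fac h (fun i => (homEquivSections J (Y i) F).symm (x i)) i
      refine (homEquivSections_naturality_left J (s i) F φ).symm.trans ?_
      rw [h1, Equiv.apply_symm_apply]
  · intro h
    have hex : ∀ (F : Sheaf J (Type u))
        (f : ∀ i, (presheafToSheaf J (Type u)).obj (yoneda.obj (Y i)) ⟶ F),
        ∃! φ : (presheafToSheaf J (Type u)).obj (yoneda.obj X) ⟶ F,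
          ∀ i, (presheafToSheaf J (Type u)).map (yoneda.map (s i)) ≫ φ = f i := by
      intro F f
      obtain ⟨x, hx⟩ := (h F).2 (fun i => homEquivSections J (Y i) F (f i))
      refine ⟨(homEquivSections J X F).symm x, ?_, ?_⟩
      · intro i
        apply (homEquivSections J (Y i) F).injective
        rw [homEquivSections_naturality_left, Equiv.apply_symm_apply]
        exact congrFun hx i
      · intro ψ hψ
        rw [Equiv.eq_symm_apply]
        apply (h F).1
        funext i
        refine (homEquivSections_naturality_left J (s i) F ψ).symm.trans ?_
        rw [hψ]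
        exact (congrFun hx i).symm
    choose d hd hd' using fun (F : Sheaf J (Type u))
        (f : ∀ i, (presheafToSheaf J (Type u)).obj (yoneda.obj (Y i)) ⟶ F) => hex F f
    exact ⟨Cofan.IsColimit.mk _ (fun t => d t.pt t.inj)
      (fun t i => hd t.pt t.inj i)
      (fun t m hm => hd' t.pt t.inj m hm)⟩

end K289.SheafCofan
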