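import Mathlib.CategoryTheory.Functor.KanExtension.Adjunction
import Mathlib.CategoryTheory.Limits.Presheaf
import Mathlib.CategoryTheory.Limits.Types.Filtered
import Mathlib.CategoryTheory.Limits.Indization.IndObject
import Mathlib.CategoryTheory.Limits.Preserves.FunctorCategory
import Mathlib.CategoryTheory.Adjunction.Limits

set_option autoImplicit false
open CategoryTheory CategoryTheory.Limits Opposite
universe u

namespace K289.Lan

variable {C : Type u} [SmallCategory C] {C' : Type u} [SmallCategory C'] (u : C ⥤ C')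

/-- The left Kan extension on presheaves of sets. -/
noncomputable abbrev lan : (Cᵒᵖ ⥤ Type u) ⥤ (C'ᵒᵖ ⥤ Type u) := u.op.lan

/-- The unit of the adjunction, evaluated on sections. -/
noncomputable def eta (H : Cᵒᵖ ⥤ Type u) (X : C) (a : H.obj (op X)) :
    ((lan u).obj H).obj (op (u.obj X)) :=
  ((u.op.lanAdjunction (Type u)).unit.app H).app (op X) a

lemma eta_natural (H : Cᵒᵖ ⥤ Type u) {X Y : C} (f : X ⟶ Y) (a : H.obj (op Y)) :
    eta u H X (H.map f.op a) = ((lan u).obj H).map (u.map f).op (eta u H Y a) :=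
  congrArg (fun k => k a) (((u.op.lanAdjunction (Type u)).unit.app H).naturality f.op)

lemma eta_map {H K : Cᵒᵖ ⥤ Type u} (α : H ⟶ K) (X : C) (a : H.obj (op X)) :
    eta u K X (α.app (op X) a) = ((lan u).map α).app (op (u.obj X)) (eta u H X a) :=
  congrArg (fun k => (k.app (op X)) a) ((u.op.lanAdjunction (Type u)).unit.naturality α)

/-- The comparison morphism `u_! (h_Y) ⟶ h_{u Y}`. -/
noncomputable def toYoneda (Y : C) : (lan u).obj (yoneda.obj Y) ⟶ yoneda.obj (u.obj Y) :=
  ((u.op.lanAdjunction (Type u)).homEquiv _ _).symm (yonedaMap u Y)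

lemma toYoneda_eta (X Y : C) (f : X ⟶ Y) :
    (toYoneda u Y).app (op (u.obj X)) (eta u (yoneda.obj Y) X f) = u.map f := by
  have h : (u.op.lanAdjunction (Type u)).homEquiv _ _ (toYoneda u Y) = yonedaMap u Y :=
    Equiv.apply_symm_apply _ _
  rw [Adjunction.homEquiv_unit] at h
  exact congrArg (fun k => (k.app (op X)) f) h

lemma eta_yoneda_injective [u.Faithful] (X Y : C) :
    Function.Injective (eta u (yoneda.obj Y) X) := by
  intro f g hfg
  apply u.map_injective
  rw [← toYoneda_eta, ← toYoneda_eta, hfg]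

lemma eta_yoneda_eq (X Y : C) (f : X ⟶ Y) :
    eta u (yoneda.obj Y) X f =
      ((lan u).obj (yoneda.obj Y)).map (u.map f).op (eta u (yoneda.obj Y) Y (𝟙 Y)) := by
  rw [← eta_natural]
  congr 1
  exact (Category.comp_id f).symm

/-- Maps `u_! h_X ⟶ K` are sections of `K` over `u X`. -/
noncomputable def homEquiv (X : C) (K : C'ᵒᵖ ⥤ Type u) :
    ((lan u).obj (yoneda.obj X) ⟶ K) ≃ K.obj (op (u.obj X)) :=
  ((u.op.lanAdjunction (Type u)).homEquiv _ _).trans yonedaEquiv

lemma homEquiv_apply (X : C) (K : C'ᵒᵖ ⥤ Type u) (φ : (lan u).obj (yoneda.obj X) ⟶ K) :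
    homEquiv u X K φ = φ.app (op (u.obj X)) (eta u (yoneda.obj X) X (𝟙 X)) := by
  simp only [homEquiv, Equiv.trans_apply]
  rw [Adjunction.homEquiv_unit]
  rfl

lemma homEquiv_map {X Y : C} (f : X ⟶ Y) :
    homEquiv u X _ ((lan u).map (yoneda.map f)) =
      ((lan u).obj (yoneda.obj Y)).map (u.map f).op (eta u (yoneda.obj Y) Y (𝟙 Y)) := by
  rw [homEquiv_apply, ← eta_map, ← eta_yoneda_eq]
  congr 1
  exact Category.id_comp f

/-- If the unit at `G` is injective then `u_!` is injective on maps into `G`. -/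
lemma map_injective_of_eta_injective (F G : Cᵒᵖ ⥤ Type u)
    (hG : ∀ X, Function.Injective (eta u G X)) :
    Function.Injective (fun φ : F ⟶ G => (lan u).map φ) := by
  intro φ ψ h
  ext ⟨X⟩ a
  apply hG X
  have h1 : eta u G X (φ.app (op X) a) = eta u G X (ψ.app (op X) a) := by
    rw [eta_map, eta_map]
    exact congrArg (fun k => (k.app (op (u.obj X))) (eta u F X a)) h
  exact h1

/-- The unit is injective on ind-objects if `u` is faithful. -/
lemma eta_injective_of_isIndObject [u.Faithful] (G : Cᵒᵖ ⥤ Type u) (hG : IsIndObject G) (X : C) :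
    Function.Injective (eta u G X) := by
  have P := hG.presentation
  let hc := isColimitOfPreserves ((evaluation Cᵒᵖ (Type u)).obj (op X)) P.isColimit
  have : PreservesColimitsOfSize.{u, u} (lan u) :=
    (u.op.lanAdjunction (Type u)).leftAdjoint_preservesColimits
  let hc' := isColimitOfPreserves ((lan u) ⋙ (evaluation C'ᵒᵖ (Type u)).obj (op (u.obj X)))
    P.isColimit
  intro a b hab
  obtain ⟨i, a', b', rfl, rfl⟩ := Types.FilteredColimit.jointly_surjective_of_isColimit₂ hc a b
  have h1 : ∀ c : (yoneda.obj (P.F.obj i)).obj (op X), eta u G X ((P.ι.app i).app (op X) c) =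
      ((lan u).map (P.ι.app i)).app (op (u.obj X)) (eta u (yoneda.obj (P.F.obj i)) X c) :=
    fun c => eta_map u (P.ι.app i) X c
  have h2 : ((lan u).map (P.ι.app i)).app (op (u.obj X)) (eta u (yoneda.obj (P.F.obj i)) X a') =
    ((lan u).map (P.ι.app i)).app (op (u.obj X)) (eta u (yoneda.obj (P.F.obj i)) X b') := by
    rw [← h1, ← h1]
    exact hab
  obtain ⟨j, f, hf⟩ := (Types.FilteredColimit.isColimit_eq_iff' hc' _ _).1 h2
  have h3 : eta u (yoneda.obj (P.F.obj j)) X ((yoneda.map (P.F.map f)).app (op X) a') =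
      eta u (yoneda.obj (P.F.obj j)) X ((yoneda.map (P.F.map f)).app (op X) b') := by
    rw [eta_map, eta_map]
    exact hf
  have h4 := eta_yoneda_injective u _ _ h3
  have h5 : ∀ c : (yoneda.obj (P.F.obj i)).obj (op X), (P.ι.app i).app (op X) c =
      (P.ι.app j).app (op X) ((yoneda.map (P.F.map f)).app (op X) c) := by
    intro c
    have := congrArg (fun k => (k.app (op X)) c) (P.ι.naturality f)
    exact this.symm
  exact (h5 a').trans ((congrArg _ h4).trans (h5 b').symm)

end K289.Lan
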